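import Mathlib

/-!
# S4327: three independent vectors `v, Tv, T²v` or a quadratic equation
-/

set_option autoImplicit false

namespace Cfsg.Agent.H974.Gs

variable {F V : Type*} [Field F] [AddCommGroup V] [Module F V]

theorem exists_eig_of_not_li (T : V →ₗ[F] V) (h : ∀ v, ¬ LinearIndependent F ![v, T v]) (v : V) (hv : v ≠ 0) :
    ∃ μ : F, T v = μ • v := by
  have h1 := h v
  rw [LinearIndependent.pair_iff' hv] at h1
  push Not at h1
  obtain ⟨a, ha⟩ := h1
  exact ⟨a, ha.symm⟩

/-- **three independent vectors or a quadratic equation** -/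
theorem exists_three_or_quadratic (T : V →ₗ[F] V) :
    (∃ v, LinearIndependent F ![v, T v, T (T v)]) ∨ ∃ α β : F, ∀ v, T (T v) = α • T v + β • v := by
  by_cases h3 : ∃ v, LinearIndependent F ![v, T v, T (T v)]
  · exact Or.inl h3
  right
  push Not at h3
  by_cases h2 : ∃ v, LinearIndependent F ![v, T v]
  swap
  · -- `T` is a scalar
    push Not at h2
    by_cases hV : ∃ v : V, v ≠ 0
    swap
    · push Not at hV
      exact ⟨0, 0, fun v => by rw [hV v]; simp⟩
    obtain ⟨v, hv⟩ := hV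
    obtain ⟨μ, hμ⟩ := exists_eig_of_not_li T h2 v hv
    have key : ∀ w, T w = μ • w := by
      intro w
      by_cases hw : w = 0
      · rw [hw, map_zero, smul_zero]
      obtain ⟨ν, hν⟩ := exists_eig_of_not_li T h2 w hw
      by_cases hs : v + w = 0
      · have : w = -v := by rw [eq_neg_iff_add_eq_zero, add_comm, hs]
        rw [this, map_neg, hμ, smul_neg]
      obtain ⟨ρ, hρ⟩ := exists_eig_of_not_li T h2 _ hs
      rw [map_add, hμ, hν, smul_add] at hρ
      have h5 : (μ - ρ) • v = (ρ - ν) • w := by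
        rw [sub_smul, sub_smul, sub_eq_sub_iff_add_eq_add, hρ]
        abel
      have h6 : (μ - ρ) • T v = (ρ - ν) • T w := by rw [← map_smul, ← map_smul, h5]
      rw [hμ, hν, smul_comm, h5, smul_comm (ρ - ν) ν] at h6
      have h7 : (μ - ν) • ((ρ - ν) • w) = 0 := by rw [sub_smul, h6, sub_self]
      rcases smul_eq_zero.1 h7 with h8 | h8
      · rw [hν, ← sub_eq_zero.1 h8]
      rcases smul_eq_zero.1 h8 with h9 | h9
      · have h10 : (μ - ρ) • v = 0 := by rw [h5, h9, zero_smul]
        rcases smul_eq_zero.1 h10 with h11 | h11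
        · rw [hν, ← sub_eq_zero.1 h9, ← sub_eq_zero.1 h11]
        · exact absurd h11 hv
      · exact absurd h9 hw
    exact ⟨0, μ * μ, fun w => by rw [key, key w, zero_smul, zero_add, smul_smul]⟩
  obtain ⟨v, hv⟩ := h2
  have hv0 : v ≠ 0 := by
    have := hv.ne_zero 0
    simpa using this
  have hTv : ∀ a : F, T v ≠ a • v := by
    intro a ha
    rw [LinearIndependent.pair_iff' hv0] at hv
    exact hv a ha.symm
  -- the local equation
  have hrel : ∀ z, ∃ a b c : F, (a ≠ 0 ∨ b ≠ 0 ∨ c ≠ 0) ∧ a • T (T z) + b • T z + c • z = 0 := by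
    intro z
    have h4 := h3 z
    rw [Fintype.not_linearIndependent_iff] at h4
    obtain ⟨g, hg, i, hi⟩ := h4
    rw [Fin.sum_univ_three] at hg
    refine ⟨g 2, g 1, g 0, ?_, ?_⟩
    · fin_cases i
      · exact Or.inr (Or.inr hi)
      · exact Or.inr (Or.inl hi)
      · exact Or.inl hi
    · simp only [Matrix.cons_val_zero, Matrix.cons_val_one, Matrix.cons_val] at hg
      rw [← hg]
      abel
  have hno : ∀ b c : F, b • T v + c • v = 0 → b = 0 ∧ c = 0 := by
    intro b c h
    have hb : b = 0 := by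
      by_contra hb
      apply hTv (-(b⁻¹ * c))
      have h5 : b • T v = -(c • v) := eq_neg_of_add_eq_zero_left h
      calc T v = b⁻¹ • (b • T v) := by rw [smul_smul, inv_mul_cancel₀ hb, one_smul]
        _ = _ := by rw [h5, smul_neg, smul_smul, neg_smul]
    subst hb
    rw [zero_smul, zero_add] at h
    exact ⟨rfl, (smul_eq_zero.1 h).resolve_right hv0⟩
  obtain ⟨a, b, c, habc, hz⟩ := hrel v
  have ha : a ≠ 0 := by
    rintro rfl
    rw [zero_smul, zero_add] at hz
    obtain ⟨h5, h6⟩ := hno b c hz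
    rcases habc with h | h | h
    · exact h rfl
    · exact h h5
    · exact h h6
  obtain ⟨α, hα⟩ : ∃ α, α = -(a⁻¹ * b) := ⟨_, rfl⟩
  obtain ⟨β, hβ⟩ : ∃ β, β = -(a⁻¹ * c) := ⟨_, rfl⟩
  have hPv : T (T v) = α • T v + β • v := by
    have h5 : a • T (T v) = -(b • T v) - c • v := by
      rw [eq_sub_iff_add_eq, eq_neg_iff_add_eq_zero, ← hz]
      abel
    calc T (T v) = a⁻¹ • (a • T (T v)) := by rw [smul_smul, inv_mul_cancel₀ ha, one_smul]
      _ = _ := by rw [h5, smul_sub, smul_neg, smul_smul, smul_smul, hα, hβ, neg_smul, neg_smul, sub_eq_add_neg]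
  refine ⟨α, β, ?_⟩
  clear hz habc ha hα hβ
  obtain ⟨P, hP⟩ : ∃ P : V →ₗ[F] V, ∀ z, P z = T (T z) - α • T z - β • z :=
    ⟨T ∘ₗ T - α • T - β • LinearMap.id, fun z => rfl⟩
  have hPT : ∀ z, P (T z) = T (P z) := by
    intro z
    rw [hP, hP, map_sub, map_sub, map_smul, map_smul]
  have hP0 : P v = 0 := by rw [hP, hPv]; abel
  have hP1 : P (T v) = 0 := by rw [hPT, hP0, map_zero]
  suffices hall : ∀ u, P u = 0 by
    intro u
    have := hall u
    rw [hP, sub_sub, sub_eq_zero] at this
    exact this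
  intro u
  by_contra hd
  -- `P z` is a combination of `z` and `T z`
  have hH : ∀ z, P z ≠ 0 → ∃ p r : F, P z = p • T z + r • z := by
    intro z hz0
    obtain ⟨a, b, c, habc, hz⟩ := hrel z
    have h5 : T (T z) = P z + α • T z + β • z := by rw [hP]; abel
    by_cases ha : a = 0
    · subst ha
      rw [zero_smul, zero_add] at hz
      have hb : b ≠ 0 := by
        rintro rfl
        rw [zero_smul, zero_add] at hz
        rcases habc with h | h | h
        · exact h rfl
        · exact h rfl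
        · rcases smul_eq_zero.1 hz with h6 | h6
          · exact h h6
          · rw [h6, map_zero] at hz0
            exact hz0 rfl
      have h6 : T z = (-(b⁻¹ * c)) • z := by
        have h7 : b • T z = -(c • z) := eq_neg_of_add_eq_zero_left hz
        calc T z = b⁻¹ • (b • T z) := by rw [smul_smul, inv_mul_cancel₀ hb, one_smul]
          _ = _ := by rw [h7, smul_neg, smul_smul, neg_smul]
      obtain ⟨μ, hμ⟩ : ∃ μ, μ = -(b⁻¹ * c) := ⟨_, rfl⟩
      rw [← hμ] at h6
      refine ⟨0, μ * μ - α * μ - β, ?_⟩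
      rw [hP, h6, map_smul, h6, zero_smul, zero_add, sub_smul, sub_smul, smul_smul, smul_smul]
    · rw [h5] at hz
      have h6 : a • P z = (-(a * α + b)) • T z + (-(a * β + c)) • z := by
        rw [← sub_eq_zero]
        rw [← hz]
        module
      refine ⟨a⁻¹ * (-(a * α + b)), a⁻¹ * (-(a * β + c)), ?_⟩
      calc P z = a⁻¹ • (a • P z) := by rw [smul_smul, inv_mul_cancel₀ ha, one_smul]
        _ = _ := by rw [h6, smul_add, smul_smul, smul_smul]
  have hW : ∀ x y : F, P (x • T v + y • v) = 0 := by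
    intro x y
    rw [map_add, map_smul, map_smul, hP0, hP1, smul_zero, smul_zero, add_zero]
  have hu : ∀ x y : F, u ≠ x • T v + y • v := fun x y h => hd (by rw [h, hW])
  -- the general consequence for `u + w`
  have hu1 : ∀ x y : F, ∃ p r : F, P u = p • T (u + (x • T v + y • v)) + r • (u + (x • T v + y • v)) := by
    intro x y
    have h5 : P (u + (x • T v + y • v)) = P u := by rw [map_add, hW, add_zero]
    have h6 := hH (u + (x • T v + y • v)) (by rw [h5]; exact hd)
    rwa [h5] at h6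
  -- case B
  have hB : ∃ μ x y : F, T u = μ • u + (x • T v + y • v) := by
    by_contra hB
    push Not at hB
    obtain ⟨p₀, r₀, h0⟩ := hH u hd
    obtain ⟨p, r, h1⟩ := hu1 0 1
    rw [zero_smul, zero_add, one_smul, map_add] at h1
    have h5 : (p₀ - p) • T u = (r - r₀) • u + (p • T v + r • v) := by
      have h6 := h0.symm.trans h1
      rw [sub_smul, sub_smul, sub_eq_iff_eq_add]
      rw [smul_add, smul_add] at h6
      have h7 : p₀ • T u = (p • T u + p • T v + (r • u + r • v)) - r₀ • u := by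
        rw [eq_sub_iff_add_eq, h6]
      rw [h7]
      abel
    by_cases hp : p₀ - p = 0
    · rw [hp, zero_smul] at h5
      by_cases hr : r - r₀ = 0
      · rw [hr, zero_smul, zero_add] at h5
        obtain ⟨h6, h7⟩ := hno p r h5.symm
        apply hd
        rw [h0, sub_eq_zero.1 hp, h6, ← sub_eq_zero.1 hr, h7, zero_smul, zero_smul, add_zero]
      · apply hu (-((r - r₀)⁻¹ * p)) (-((r - r₀)⁻¹ * r))
        have h6 : (r - r₀) • u = -(p • T v + r • v) := eq_neg_of_add_eq_zero_left h5.symm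
        calc u = (r - r₀)⁻¹ • ((r - r₀) • u) := by rw [smul_smul, inv_mul_cancel₀ hr, one_smul]
          _ = _ := by
            rw [h6]
            module
    · apply hB ((p₀ - p)⁻¹ * (r - r₀)) ((p₀ - p)⁻¹ * p) ((p₀ - p)⁻¹ * r)
      calc T u = (p₀ - p)⁻¹ • ((p₀ - p) • T u) := by rw [smul_smul, inv_mul_cancel₀ hp, one_smul]
        _ = _ := by
          rw [h5]
          module
  obtain ⟨μ, x₁, y₁, hTu⟩ := hB
  obtain ⟨w₁, hw₁⟩ : ∃ w₁, w₁ = x₁ • T v + y₁ • v := ⟨_, rfl⟩
  rw [← hw₁] at hTu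
  have hPw₁ : P w₁ = 0 := by rw [hw₁, hW]
  have hTTw₁ : T (T w₁) = α • T w₁ + β • w₁ := by
    rw [hP, sub_sub, sub_eq_zero] at hPw₁
    exact hPw₁
  obtain ⟨χ, hχ⟩ : ∃ χ, χ = μ * μ - α * μ - β := ⟨_, rfl⟩
  have hdu : P u = χ • u + (T w₁ + (μ - α) • w₁) := by
    rw [hP, hTu, map_add, map_smul, hTu, hχ]
    module
  -- `y_w` is an eigenvector
  have hy : ∀ x y : F, ∃ p : F, T (w₁ + (T (x • T v + y • v) - μ • (x • T v + y • v))) =
      p • (w₁ + (T (x • T v + y • v) - μ • (x • T v + y • v))) := by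
    intro x y
    obtain ⟨p, r, h5⟩ := hu1 x y
    obtain ⟨w, hw⟩ : ∃ w, w = x • T v + y • v := ⟨_, rfl⟩
    rw [← hw] at h5 ⊢
    have hTTw : T (T w) = α • T w + β • w := by
      have h6 := hW x y
      rw [← hw, hP, sub_sub, sub_eq_zero] at h6
      exact h6
    obtain ⟨x₂, y₂, hx₂⟩ : ∃ x₂ y₂ : F, T w = x₂ • T v + y₂ • v := by
      refine ⟨x * α + y, x * β, ?_⟩
      rw [hw, map_add, map_smul, map_smul, hPv]
      module
    have hpr : p * μ + r = χ := by
      by_contra hne
      have hne' : (p * μ + r) - χ ≠ 0 := sub_ne_zero.2 hne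
      rw [hdu, map_add, hTu] at h5
      have h6 : ((p * μ + r) - χ) • u = (T w₁ + (μ - α) • w₁) - (p • w₁ + p • T w + r • w) := by
        rw [eq_sub_iff_add_eq]
        have h7 : χ • u + (T w₁ + (μ - α) • w₁) - χ • u = p • (μ • u + w₁ + T w) + r • (u + w) - χ • u := by rw [h5]
        rw [add_sub_cancel_left] at h7
        rw [h7]
        module
      -- the right-hand side lies in `⟨v, Tv⟩`
      obtain ⟨x₃, y₃, hx₃⟩ : ∃ x₃ y₃ : F, T w₁ = x₃ • T v + y₃ • v := by
        refine ⟨x₁ * α + y₁, x₁ * β, ?_⟩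
        rw [hw₁, map_add, map_smul, map_smul, hPv]
        module
      apply hu (((p * μ + r) - χ)⁻¹ * (x₃ + (μ - α) * x₁ - (p * x₁ + p * x₂ + r * x)))
        (((p * μ + r) - χ)⁻¹ * (y₃ + (μ - α) * y₁ - (p * y₁ + p * y₂ + r * y)))
      calc u = ((p * μ + r) - χ)⁻¹ • (((p * μ + r) - χ) • u) := by rw [smul_smul, inv_mul_cancel₀ hne', one_smul]
        _ = _ := by
          rw [h6, hx₃, hx₂, hw₁, hw]
          module
    refine ⟨p + α - μ, ?_⟩
    -- `T w₁ + (μ - α) w₁ = χ w + p y_w`
    have h6 : T w₁ + (μ - α) • w₁ = χ • w + p • (w₁ + (T w - μ • w)) := by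
      rw [hdu, map_add, hTu, ← hpr] at h5
      have h7 : T w₁ + (μ - α) • w₁ = (p • (μ • u + w₁ + T w) + r • (u + w)) - (p * μ + r) • u := by
        rw [← h5]; abel
      rw [h7, ← hpr]
      module
    have h8 : T w₁ = χ • w + p • (w₁ + (T w - μ • w)) - (μ - α) • w₁ := by rw [← h6]; abel
    rw [map_add, map_sub, map_smul, hTTw, h8, hχ]
    module
  by_cases hχ0 : χ = 0
  · -- `d = (T + μ - α) w₁`
    rw [hχ0, zero_smul, zero_add] at hdu
    have hw₁0 : w₁ ≠ 0 := by
      intro h
      apply hd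
      rw [hdu, h, map_zero, smul_zero, add_zero]
    obtain ⟨lam, hlam⟩ := hy 0 0
    have hz0 : (0 : F) • T v + (0 : F) • v = 0 := by simp
    rw [hz0, map_zero, smul_zero, sub_zero, add_zero] at hlam
    -- `(T - μ) d = 0`
    have hTd : T (P u) = μ • P u := by
      rw [hdu, map_add, map_smul, hTTw₁]
      have : μ * μ - α * μ - β = 0 := by rw [← hχ, hχ0]
      have hβ' : β = μ * μ - α * μ := (sub_eq_zero.1 this).symm
      rw [hβ']
      module
    rw [hlam, ← add_smul] at hdu
    have hne : lam + (μ - α) ≠ 0 := by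
      intro h
      apply hd
      rw [hdu, h, zero_smul]
    have hlm : lam = μ := by
      rw [hdu, map_smul, hlam, smul_smul, smul_smul] at hTd
      have h5 : ((lam + (μ - α)) * lam - μ * (lam + (μ - α))) • w₁ = 0 := by rw [sub_smul, hTd, sub_self]
      rcases smul_eq_zero.1 h5 with h6 | h6
      · have h7 : (lam + (μ - α)) * (lam - μ) = 0 := by linear_combination h6
        exact sub_eq_zero.1 ((mul_eq_zero.1 h7).resolve_left hne)
      · exact absurd h6 hw₁0
    subst hlm
    obtain ⟨e', he'⟩ : ∃ e', e' = T v - lam • v := ⟨_, rfl⟩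
    have he0 : e' ≠ 0 := by
      intro h
      rw [he', sub_eq_zero] at h
      exact hTv _ h
    have hβ' : β = lam * lam - α * lam := by
      have : lam * lam - α * lam - β = 0 := by rw [← hχ, hχ0]
      exact (sub_eq_zero.1 this).symm
    have hTe : T e' = (α - lam) • e' := by
      rw [he', map_sub, map_smul, hPv, hβ']
      module
    obtain ⟨p, hp⟩ := hy 0 1
    rw [zero_smul, zero_add, one_smul, ← he', map_add, hlam, hTe] at hp
    have h5 : (lam - p) • w₁ = (p - (α - lam)) • e' := by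
      rw [smul_add] at hp
      rw [sub_smul, sub_smul, sub_eq_sub_iff_add_eq_add, hp]
      abel
    have h6 := congrArg T h5
    rw [map_smul, map_smul, hlam, hTe, smul_comm, h5, smul_comm _ (α - lam)] at h6
    have h7 : (lam - (α - lam)) • ((p - (α - lam)) • e') = 0 := by rw [sub_smul, h6, sub_self]
    rcases smul_eq_zero.1 h7 with h8 | h8
    · apply hne
      rw [← h8]
      ring
    · rw [h8] at h5
      rcases smul_eq_zero.1 h5 with h9 | h9
      · rcases smul_eq_zero.1 h8 with h10 | h10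
        · apply hne
          have h11 : lam = p := sub_eq_zero.1 h9
          rw [← h11] at h10
          rw [← h10]
          ring
        · exact he0 h10
      · exact hw₁0 h9
  · -- `T - μ` is invertible on `⟨v, Tv⟩`
    -- w = -χ⁻¹ (T + μ - α)(v - w₁)
    obtain ⟨x₃, y₃, hx₃⟩ : ∃ x₃ y₃ : F, T w₁ = x₃ • T v + y₃ • v := by
      refine ⟨x₁ * α + y₁, x₁ * β, ?_⟩
      rw [hw₁, map_add, map_smul, map_smul, hPv]
      module
    have hw : ∃ x y : F, x • T v + y • v = (-χ⁻¹) • ((T v + (μ - α) • v) - (T w₁ + (μ - α) • w₁)) := by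
      refine ⟨(-χ⁻¹) * (1 - (x₃ + (μ - α) * x₁)), (-χ⁻¹) * ((μ - α) - (y₃ + (μ - α) * y₁)), ?_⟩
      rw [hx₃, hw₁]
      module
    obtain ⟨x, y, hxy⟩ := hw
    obtain ⟨p, hp⟩ := hy x y
    have h5 : w₁ + (T (x • T v + y • v) - μ • (x • T v + y • v)) = v := by
      rw [hxy, map_smul, map_sub, map_add, map_add, map_smul, map_smul, hPv, hTTw₁]
      have e1 : α • T v + β • v + (μ - α) • T v - (α • T w₁ + β • w₁ + (μ - α) • T w₁) -
          μ • (T v + (μ - α) • v - (T w₁ + (μ - α) • w₁)) = (-χ) • (v - w₁) := by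
        rw [hχ]
        module
      rw [smul_comm μ (-χ⁻¹), ← smul_sub, e1, smul_smul, neg_mul_neg, inv_mul_cancel₀ hχ0, one_smul]
      abel
    rw [h5] at hp
    exact hTv p hp

end Cfsg.Agent.H974.Gs
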