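import Cfsg.Agent.H974.Gs.RowPsl
import Cfsg.Agent.H922.Gs.SlCert
import Cfsg.Agent.H915.Gs.SLThree

/-!
# S4327, the row of `PSL_n(q)` from the non-linear elements and `n = 2`
-/

set_option autoImplicit false

namespace Cfsg.Agent.H974.Gs

open Matrix Subgroup
open Cfsg.Agent.H915.Gs
open Cfsg.Agent.H199.PslAut (Psi Psi_pr)

theorem certs (F : Type*) [Field F] [Fintype F] : Certs F where
  two h α β hβ := Cfsg.Agent.H922.Gs.cert_two h α β hβ
  three h α β hβ hb := by
    subst hb
    exact Cfsg.Agent.H922.Gs.cert_three h α hβ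
  five h α β hβ hs := Cfsg.Agent.H922.Gs.cert_five h α β hβ hs

section

variable {F : Type*} [Field F] [Fintype F] {n : ℕ}

/-- **the row of `PSL_n(q)`, `n ≥ 3`, from the non-linear elements** -/
theorem row_psl_ge (hn : 3 ≤ n) (hN : NonLin F n)
    [IsSimpleGroup (Matrix.ProjectiveSpecialLinearGroup (Fin n) F)]
    (hab : ¬ IsMulCommutative (Matrix.ProjectiveSpecialLinearGroup (Fin n) F)) :
    Row (Matrix.ProjectiveSpecialLinearGroup (Fin n) F) := by
  intro r x hr hr2 hx
  rcases hN x hx with ⟨g, rfl⟩ | h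
  · have hg : Psi n F g ≠ 1 := by
      intro h
      rw [h, orderOf_one] at hx
      exact Nat.not_prime_one hx
    by_cases h4 : 4 ≤ n
    · refine tri_psi (certs F) hn hg hr hr2 (conj_injective hab) (fun _ => ?_)
      refine Cfsg.Agent.H915.SLThree.r3 h4 (exists_not_eig ?_) (conj_injective hab)
      intro h
      apply hg
      rw [glc_eq_cj] at h
      unfold Psi
      rw [MonoidHom.comp_apply, h, map_one]
    · exact Or.inl ((reach_psi (certs F) hn hg).mono (by omega) (by omega))
  · exact Or.inl h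

end

/-- **all `PSL_n(q)`** -/
theorem row_isPSL {L : Type*} [Group L] [IsSimpleGroup L] (hab : ¬ IsMulCommutative L) (hL : Cfsg.IsPSL L)
    (h2 : ∀ (F : Type) [Field F] [Fintype F], 4 ≤ Fintype.card F → Row (Matrix.ProjectiveSpecialLinearGroup (Fin 2) F))
    (hN : ∀ (F : Type) [Field F] [Fintype F] (n : ℕ), 3 ≤ n → NonLin F n) : Row L := by
  obtain ⟨F, iF, iT, n, hn, hq, ⟨e⟩⟩ := hL
  have hs : IsSimpleGroup (Matrix.ProjectiveSpecialLinearGroup (Fin n) F) := e.symm.isSimpleGroup
  have hab' : ¬ IsMulCommutative (Matrix.ProjectiveSpecialLinearGroup (Fin n) F) := by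
    intro h
    apply hab
    refine ⟨⟨fun a b => e.injective ?_⟩⟩
    rw [map_mul, map_mul]
    exact h.is_comm.comm _ _
  rcases hn.lt_or_eq with h | h
  · exact (row_psl_ge h (hN F n h) hab').congr e.symm
  · subst h
    exact (h2 F (hq rfl)).congr e.symm

end Cfsg.Agent.H974.Gs
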