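import Cfsg.Agent.H974.Gs.Emb

/-!
# S4327, `SL_n`: the matrix of an element with `g² = α g + β` on a 4-space
-/

set_option autoImplicit false

namespace Cfsg.Agent.H974.Gs

open Matrix Subgroup

/-- block diagonal with two companions of `x² - αx - β` -/
def mC {R : Type*} [CommRing R] (α β : R) : Matrix (Fin 4) (Fin 4) R :=
  !![0, β, 0, 0; 1, α, 0, 0; 0, 0, 0, β; 0, 0, 1, α]

theorem det_mC {R : Type*} [CommRing R] (α β : R) : (mC α β).det = β ^ 2 := by
  rw [det_succ_column_zero]
  simp only [Fin.sum_univ_four, mC, det_fin_three]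
  simp [Fin.succAbove, submatrix]
  ring

/-- the same as an element of `GL` -/
noncomputable def gC {F : Type*} [Field F] (α β : F) (hβ : β ≠ 0) : GL (Fin 4) F :=
  GeneralLinearGroup.mkOfDetNeZero (mC α β) (by rw [det_mC]; exact pow_ne_zero _ hβ)

theorem coe_gC {F : Type*} [Field F] (α β : F) (hβ : β ≠ 0) : (gC α β hβ : Matrix (Fin 4) (Fin 4) F) = mC α β := rfl

end Cfsg.Agent.H974.Gs
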