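import Cfsg.Agent.H974.Gs.Emb
import Cfsg.Agent.H127.Gs.Hom

/-!
# S4327, `SL_n`, linear case: `g - μ` of rank one gives a transvection or a homology
-/

set_option autoImplicit false

namespace Cfsg.Agent.H974.Gs

open Matrix Subgroup
open Cfsg.Agent.H915.Gs Cfsg.Agent.H127.Gs

variable {F : Type*} [Field F] {ι : Type*} [Fintype ι] [DecidableEq ι]

/-- conjugation by `μ • M` where `M M' = 1` -/
theorem glc_eq_of {g : GL ι F} {μ : F} (hμ : μ ≠ 0) {M M' : Matrix ι ι F} (hM : M * M' = 1)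
    (hg : (g : Matrix ι ι F) = μ • M) (A : SpecialLinearGroup ι F) :
    (glc g A : Matrix ι ι F) = M * (A : Matrix ι ι F) * M' := by
  have hM' : M' * M = 1 := mul_eq_one_comm.1 hM
  have hinv : ((g⁻¹ : GL ι F) : Matrix ι ι F) = μ⁻¹ • M' := by
    have h1 := val_inv_mul g
    rw [hg, mul_smul_comm] at h1
    calc ((g⁻¹ : GL ι F) : Matrix ι ι F) = ((g⁻¹ : GL ι F) : Matrix ι ι F) * (M * M') := by rw [hM, mul_one]
      _ = (μ⁻¹ • (μ • (((g⁻¹ : GL ι F) : Matrix ι ι F) * M))) * M' := by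
          rw [smul_smul, inv_mul_cancel₀ hμ, one_smul, mul_assoc]
      _ = _ := by rw [h1, smul_mul_assoc, one_mul]
  rw [coe_glc, hg, hinv, smul_mul_assoc, smul_mul_smul_comm, mul_inv_cancel₀ hμ, one_smul]

/-- **rank one** -/
theorem nu_one (h3 : 3 ≤ Fintype.card ι) (g : GL ι F)
    (hns : ∃ v : ι → F, ∀ μ : F, (g : Matrix ι ι F) *ᵥ v ≠ μ • v) {μ : F} {e : ι → F}
    (h : ∀ v : ι → F, ∃ c : F, (g : Matrix ι ι F) *ᵥ v - μ • v = c • e) :
    (∃ v f : ι → F, v ≠ 0 ∧ f ≠ 0 ∧ f ⬝ᵥ v = 0 ∧ glc g = MulAut.conj (tv v f)) ∨ IsHom (glc g) := by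
  choose c hc using fun j => h (Pi.single j 1)
  have hg : (g : Matrix ι ι F) = μ • 1 + vecMulVec e c := by
    ext i j
    have h1 := congrFun (hc j) i
    rw [Pi.sub_apply, mulVec_single_one, Pi.smul_apply, Pi.smul_apply, smul_eq_mul, smul_eq_mul] at h1
    rw [Matrix.add_apply, Matrix.smul_apply, vecMulVec_apply, smul_eq_mul, Matrix.one_apply]
    have h2 : (Pi.single j 1 : ι → F) i = if i = j then 1 else 0 := by rw [Pi.single_apply]
    rw [h2] at h1
    have h3 : (g : Matrix ι ι F).col j i = (g : Matrix ι ι F) i j := rfl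
    rw [h3] at h1
    linear_combination h1
  have hgv : ∀ v, (g : Matrix ι ι F) *ᵥ v = μ • v + (c ⬝ᵥ v) • e := by
    intro v
    rw [hg, add_mulVec, smul_mulVec, one_mulVec, vecMulVec_mulVec]
    congr 1
    ext i
    simp [mul_comm]
  have he : e ≠ 0 := by
    rintro rfl
    obtain ⟨v, hv⟩ := hns
    exact hv μ (by rw [hgv, smul_zero, add_zero])
  have hc0 : c ≠ 0 := by
    rintro rfl
    obtain ⟨v, hv⟩ := hns
    exact hv μ (by rw [hgv, zero_dotProduct, zero_smul, add_zero])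
  have hinj : ∀ v : ι → F, (g : Matrix ι ι F) *ᵥ v = 0 → v = 0 := by
    intro v hv
    have h1 : ((g⁻¹ : GL ι F) : Matrix ι ι F) *ᵥ ((g : Matrix ι ι F) *ᵥ v) = v := by
      rw [mulVec_mulVec, val_inv_mul, one_mulVec]
    rw [← h1, hv, mulVec_zero]
  have hμ : μ ≠ 0 := by
    rintro rfl
    -- a vector in the kernel of `c`
    obtain ⟨v, hv0, hv⟩ : ∃ v : ι → F, v ≠ 0 ∧ c ⬝ᵥ v = 0 := by
      obtain ⟨i, j, hij⟩ : ∃ i j : ι, i ≠ j := Fintype.exists_pair_of_one_lt_card (by omega)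
      by_cases hci : c i = 0
      · exact ⟨Pi.single i 1, by simp, by simp [hci]⟩
      · refine ⟨Pi.single j (c i) - Pi.single i (c j), ?_, ?_⟩
        · intro h0
          have := congrFun h0 j
          simp [hij.symm] at this
          exact hci this
        · rw [dotProduct_sub, dotProduct_single, dotProduct_single]; ring
    exact hv0 (hinj v (by rw [hgv, hv, zero_smul, zero_smul, add_zero]))
  set f : ι → F := μ⁻¹ • c with hf
  have hf0 : f ≠ 0 := by
    rw [hf]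
    exact smul_ne_zero (inv_ne_zero hμ) hc0
  have hg' : (g : Matrix ι ι F) = μ • (1 + vecMulVec e f) := by
    rw [hg, smul_add, hf, vecMulVec_smul, smul_smul, mul_inv_cancel₀ hμ, one_smul]
  by_cases hfe : f ⬝ᵥ e = 0
  · left
    refine ⟨e, f, he, hf0, hfe, ?_⟩
    have hM : (1 + vecMulVec e f) * (((tv e f)⁻¹ : SpecialLinearGroup ι F) : Matrix ι ι F) = 1 := by
      rw [← coe_tv hfe, ← Matrix.SpecialLinearGroup.coe_mul, mul_inv_cancel, Matrix.SpecialLinearGroup.coe_one]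
    apply MulEquiv.ext
    intro A
    apply Subtype.ext
    rw [glc_eq_of hμ hM hg', MulAut.conj_apply, Matrix.SpecialLinearGroup.coe_mul, Matrix.SpecialLinearGroup.coe_mul,
      coe_tv hfe]
  · right
    obtain ⟨s, hs⟩ : ∃ s, s = f ⬝ᵥ e := ⟨_, rfl⟩
    have hs0 : s ≠ 0 := by rw [hs]; exact hfe
    have hfv : f ⬝ᵥ (s⁻¹ • e) = 1 := by rw [dotProduct_smul, ← hs, smul_eq_mul, inv_mul_cancel₀ hs0]
    have hl0 : 1 + s ≠ 0 := by
      intro h0
      apply he
      apply hinj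
      rw [hgv]
      have : c ⬝ᵥ e = μ * s := by
        rw [hs, hf, smul_dotProduct, smul_eq_mul, ← mul_assoc, mul_inv_cancel₀ hμ, one_mul]
      rw [this, ← add_smul]
      have : μ + μ * s = 0 := by linear_combination μ * h0
      rw [this, zero_smul]
    refine ⟨s⁻¹ • e, f, 1 + s, hfv, hl0, ?_, ?_⟩
    · intro h0
      exact hs0 (by linear_combination h0)
    · intro A
      have e1 : (1 + (1 + s - 1) • vecMulVec (s⁻¹ • e) f : Matrix ι ι F) = 1 + vecMulVec e f := by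
        rw [smul_vecMulVec, smul_smul, add_sub_cancel_left, mul_inv_cancel₀ hs0, one_smul]
      have h1 := hom_mul_inv (F := F) hfv hl0
      rw [e1] at h1
      rw [glc_eq_of hμ h1 hg', e1]

end Cfsg.Agent.H974.Gs
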