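import Cfsg.Agent.H974.Gs.Quad
import Cfsg.Agent.H127.Gs.Hom
import Cfsg.Agent.H127.Gs.Emb

/-!
# S4327, `SL_n`, linear case: from the start to all natural subgroups
-/

set_option autoImplicit false

namespace Cfsg.Agent.H974.Gs

open Matrix Subgroup
open Cfsg.Agent.H915.Gs Cfsg.Agent.H127.Gs

variable {F : Type*} [Field F] {ι : Type*} [Fintype ι] [DecidableEq ι]

theorem Pr.opp {g : GL ι F} {c : F} (h : Pr g c) (hc : c ≠ 0) : Opp (glc g) := by
  obtain ⟨A, B, hBA, h⟩ := h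
  have h1 := h 1
  unfold Ut Lt at h1
  rw [emb_tv hBA (by simp), emb_tv hBA (by simp), mul_one] at h1
  refine ⟨A *ᵥ ![1, 0], ![0, 1] ᵥ* B, A *ᵥ ![0, c], ![1, 0] ᵥ* B, ?_, ?_, ?_, ?_, h1⟩
  · rw [dotProduct_mulVec, vecMul_vecMul, hBA, vecMul_one]; simp
  · rw [dotProduct_mulVec, vecMul_vecMul, hBA, vecMul_one]; simp
  · rw [dotProduct_mulVec, vecMul_vecMul, hBA, vecMul_one]; simpa using hc
  · rw [dotProduct_mulVec, vecMul_vecMul, hBA, vecMul_one]; simp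

/-- the statement `FRAMES` for `κ` -/
def Frames (F : Type*) [Field F] (ι : Type*) [Fintype ι] [DecidableEq ι] (m : ℕ) : Prop :=
  ∀ (A : Matrix ι (Fin m) F) (B : Matrix (Fin m) ι F) (h : B * A = 1) (I : Finset ι), I.card = m →
    ∃ g : SpecialLinearGroup ι F, NatG F I ≤ cj g (emb A B h).range

theorem reach_nat {m k : ℕ} (hfr : Frames F ι m) {a : MulAut (SpecialLinearGroup ι F)} {A : Matrix ι (Fin m) F}
    {B : Matrix (Fin m) ι F} {h : B * A = 1} (hr : Reach a k (emb A B h).range) {I : Finset ι} (hI : I.card = m) :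
    Reach a k (NatG F I) := by
  obtain ⟨g, hg⟩ := hfr A B h I hI
  exact (hr.conj g).sub hg

/-- **start 3** -/
theorem reach_of_pr (h3 : 3 ≤ Fintype.card ι) (hfr : Frames F ι 2) {g : GL ι F} {c : F} (hc : c ≠ 0) (hP : Pr g c)
    (hS : ∀ ψ : SpecialLinearGroup (Fin 2) F →* SpecialLinearGroup ι F,
      (∀ t, glc g (ψ (Ut t)) = ψ (Lt (c * t))) → Reach₁ (glc g) 2 ψ.range) {I : Finset ι} (hI : 2 ≤ I.card) :
    Reach (glc g) (I.card + 1) (NatG F I) := by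
  have hopp := hP.opp hc
  obtain ⟨A, B, hBA, h⟩ := hP
  obtain ⟨I₀, hI₀, hcard⟩ := Finset.exists_subset_card_eq hI
  have h1 := reach_nat hfr (hS (emb A B hBA) h).reach hcard
  have h2 := reach_of_subset h3 hopp hcard.ge h1 hI₀
  rw [hcard] at h2
  have e : 2 + 1 + (I.card - 2) = I.card + 1 := by omega
  rwa [e] at h2

/-- **start 5 on a 4-space** -/
theorem reach_of_cert_quad (h3 : 3 ≤ Fintype.card ι) (hfr : Frames F ι 4) {g : GL ι F} {α β : F} (hβ : β ≠ 0)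
    (hq : ∀ v : ι → F, (g : Matrix ι ι F) *ᵥ ((g : Matrix ι ι F) *ᵥ v) = α • ((g : Matrix ι ι F) *ᵥ v) + β • v)
    (hP : Pr g β⁻¹) (hc : Cert (gC α β hβ)) {v w : ι → F}
    (hli : LinearIndependent F ![v, (g : Matrix ι ι F) *ᵥ v, w, (g : Matrix ι ι F) *ᵥ w]) {I : Finset ι}
    (hI : 4 ≤ I.card) : Reach (glc g) (I.card + 1) (NatG F I) := by
  obtain ⟨A, B, hBA, hA, hB⟩ := frame_of_quad g hq hli
  obtain ⟨I₀, hI₀, hcard⟩ := Finset.exists_subset_card_eq hI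
  have h1 := reach_nat hfr (reach_of_cert hc hBA hA hB) hcard
  have h2 := reach_of_subset h3 (hP.opp (inv_ne_zero hβ)) (by omega : 2 ≤ I₀.card) h1 hI₀
  rw [hcard] at h2
  have e : 5 + (I.card - 4) = I.card + 1 := by omega
  rwa [e] at h2

end Cfsg.Agent.H974.Gs
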