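import Cfsg.Agent.H974.Gs.Start

/-!
# S4327, `SL_n`, linear case: a 4-dimensional natural subgroup normalised by an element with `g² = αg + β`
-/

set_option autoImplicit false

namespace Cfsg.Agent.H974.Gs

open Matrix Subgroup
open Cfsg.Agent.H915.Gs Cfsg.Agent.H127.Gs

variable {F : Type*} [Field F] {ι : Type*} [Fintype ι] [DecidableEq ι]

/-- **the invariant frame** -/
theorem frame_of_quad (g : GL ι F) {α β : F}
    (hq : ∀ v : ι → F, (g : Matrix ι ι F) *ᵥ ((g : Matrix ι ι F) *ᵥ v) = α • ((g : Matrix ι ι F) *ᵥ v) + β • v)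
    {v w : ι → F} (hli : LinearIndependent F ![v, (g : Matrix ι ι F) *ᵥ v, w, (g : Matrix ι ι F) *ᵥ w]) :
    ∃ (A : Matrix ι (Fin 4) F) (B : Matrix (Fin 4) ι F), B * A = 1 ∧
      (g : Matrix ι ι F) * A = A * mC α β ∧ B * (g : Matrix ι ι F) = mC α β * B := by
  set G : Matrix ι ι F := (g : Matrix ι ι F) with hG
  obtain ⟨φ, hφ⟩ := exists_dual hli ![0, 1, 0, 0]
  obtain ⟨ψ, hψ⟩ := exists_dual hli ![0, 0, 0, 1]
  have p0 : φ ⬝ᵥ v = 0 := hφ 0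
  have p1 : φ ⬝ᵥ (G *ᵥ v) = 1 := hφ 1
  have p2 : φ ⬝ᵥ w = 0 := hφ 2
  have p3 : φ ⬝ᵥ (G *ᵥ w) = 0 := hφ 3
  have q0 : ψ ⬝ᵥ v = 0 := hψ 0
  have q1 : ψ ⬝ᵥ (G *ᵥ v) = 0 := hψ 1
  have q2 : ψ ⬝ᵥ w = 0 := hψ 2
  have q3 : ψ ⬝ᵥ (G *ᵥ w) = 1 := hψ 3
  have hGG : G * G = α • G + β • (1 : Matrix ι ι F) := by
    apply Matrix.toLin'.injective
    apply LinearMap.ext
    intro x
    rw [toLin'_apply, toLin'_apply, ← mulVec_mulVec, hq x, add_mulVec, smul_mulVec, smul_mulVec, one_mulVec]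
  let A : Matrix ι (Fin 4) F := Matrix.of fun i j => ![v i, (G *ᵥ v) i, w i, (G *ᵥ w) i] j
  let B : Matrix (Fin 4) ι F := Matrix.of fun j i => ![(φ ᵥ* G - α • φ) i, φ i, (ψ ᵥ* G - α • ψ) i, ψ i] j
  have hA0 : ∀ k, A *ᵥ Pi.single k 1 = ![v, G *ᵥ v, w, G *ᵥ w] k := by
    intro k
    ext i
    rw [mulVec_single_one]
    fin_cases k <;> rfl
  refine ⟨A, B, ?_, ?_, ?_⟩
  · ext i j
    rw [mul_apply]
    have key : ∀ (x y : ι → F), ∑ k, x k * y k = x ⬝ᵥ y := fun x y => rfl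
    have e1 : ∀ x y : ι → F, (x ᵥ* G - α • x) ⬝ᵥ y = x ⬝ᵥ (G *ᵥ y) - α * (x ⬝ᵥ y) := by
      intro x y
      rw [sub_dotProduct, ← dotProduct_mulVec, smul_dotProduct, smul_eq_mul]
    have e2 : ∀ x y : ι → F, (x ᵥ* G - α • x) ⬝ᵥ (G *ᵥ y) = β * (x ⬝ᵥ y) := by
      intro x y
      rw [e1, hG, hq y, dotProduct_add, dotProduct_smul, dotProduct_smul, smul_eq_mul, smul_eq_mul]
      ring
    fin_cases i <;> fin_cases j
    · change (φ ᵥ* G - α • φ) ⬝ᵥ v = 1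
      rw [e1, p1, p0]; ring
    · change (φ ᵥ* G - α • φ) ⬝ᵥ (G *ᵥ v) = 0
      rw [e2, p0, mul_zero]
    · change (φ ᵥ* G - α • φ) ⬝ᵥ w = 0
      rw [e1, p3, p2]; ring
    · change (φ ᵥ* G - α • φ) ⬝ᵥ (G *ᵥ w) = 0
      rw [e2, p2, mul_zero]
    · exact p0
    · exact p1
    · exact p2
    · exact p3
    · change (ψ ᵥ* G - α • ψ) ⬝ᵥ v = 0
      rw [e1, q1, q0]; ring
    · change (ψ ᵥ* G - α • ψ) ⬝ᵥ (G *ᵥ v) = 0
      rw [e2, q0, mul_zero]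
    · change (ψ ᵥ* G - α • ψ) ⬝ᵥ w = 1
      rw [e1, q3, q2]; ring
    · change (ψ ᵥ* G - α • ψ) ⬝ᵥ (G *ᵥ w) = 0
      rw [e2, q2, mul_zero]
    · exact q0
    · exact q1
    · exact q2
    · exact q3
  · ext i j
    rw [mul_apply, mul_apply, Fin.sum_univ_four]
    fin_cases j
    · change (G *ᵥ v) i = v i * 0 + (G *ᵥ v) i * 1 + w i * 0 + (G *ᵥ w) i * 0
      ring
    · change (G *ᵥ (G *ᵥ v)) i = v i * β + (G *ᵥ v) i * α + w i * 0 + (G *ᵥ w) i * 0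
      rw [hG, hq v]
      simp only [Pi.add_apply, Pi.smul_apply, smul_eq_mul]
      ring
    · change (G *ᵥ w) i = v i * 0 + (G *ᵥ v) i * 0 + w i * 0 + (G *ᵥ w) i * 1
      ring
    · change (G *ᵥ (G *ᵥ w)) i = v i * 0 + (G *ᵥ v) i * 0 + w i * β + (G *ᵥ w) i * α
      rw [hG, hq w]
      simp only [Pi.add_apply, Pi.smul_apply, smul_eq_mul]
      ring
  · have key : ∀ x : ι → F, (x ᵥ* G) ᵥ* G = α • (x ᵥ* G) + β • x := by
      intro x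
      rw [vecMul_vecMul, hGG, vecMul_add, vecMul_smul, vecMul_smul, vecMul_one]
    ext i j
    rw [mul_apply, mul_apply, Fin.sum_univ_four]
    fin_cases i
    · change ((φ ᵥ* G - α • φ) ᵥ* G) j = 0 * (φ ᵥ* G - α • φ) j + β * φ j + 0 * (ψ ᵥ* G - α • ψ) j + 0 * ψ j
      rw [sub_vecMul, key, smul_vecMul]
      simp only [Pi.add_apply, Pi.sub_apply, Pi.smul_apply, smul_eq_mul]
      ring
    · change (φ ᵥ* G) j = 1 * (φ ᵥ* G - α • φ) j + α * φ j + 0 * (ψ ᵥ* G - α • ψ) j + 0 * ψ j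
      simp only [Pi.sub_apply, Pi.smul_apply, smul_eq_mul]
      ring
    · change ((ψ ᵥ* G - α • ψ) ᵥ* G) j = 0 * (φ ᵥ* G - α • φ) j + 0 * φ j + 0 * (ψ ᵥ* G - α • ψ) j + β * ψ j
      rw [sub_vecMul, key, smul_vecMul]
      simp only [Pi.add_apply, Pi.sub_apply, Pi.smul_apply, smul_eq_mul]
      ring
    · change (ψ ᵥ* G) j = 0 * (φ ᵥ* G - α • φ) j + 0 * φ j + 1 * (ψ ᵥ* G - α • ψ) j + α * ψ j
      simp only [Pi.sub_apply, Pi.smul_apply, smul_eq_mul]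
      ring

end Cfsg.Agent.H974.Gs
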